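import Mathlib

/-!
# Project SPMD (helper94): minimal degree of `Sp_{2n}(q)`, `q` even (S2333) — definitions

* `symAdd n F` : the additive group of symmetric `n × n` matrices; `altAdd n F` : those with zero diagonal;
* `uS S` : the Siegel unipotent element `[[1, S], [0, 1]]` of `Matrix.symplecticGroup (Fin n) F`; `uHom`;
* `dA A` : the Levi element `[[A, 0], [0, A⁻ᵀ]]`; `lT T` : the opposite unipotent `[[1, 0], [T, 1]]`;
* `congrS A` : the congruence action `S ↦ A S Aᵀ` on symmetric matrices (an additive automorphism);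
* `rk1 c x = c • x xᵀ`, `rk2 c x y = c • (x yᵀ + y xᵀ)` : symmetric matrices of rank one / two;
* `wt ρ u θ` : the weight space of an additive character `θ` of a finite abelian group `A` acting through `u`;
* `actQ A Q` : the quadratic form `x ↦ Q (A⁻¹ x)`; `orbQ Q` : the `GL_n`-orbit of `Q`;
* `stdPairs Q a b` : pairs `(x, y)` with `B(x,y) = 1`, `Q x = a`, `Q y = b`; `actT A θ` : `S ↦ θ (A⁻¹ S A⁻ᵀ)`.
-/

set_option autoImplicit false

namespace Cfsg.Agent.Lib.Helper94.SPMD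

open Matrix

section mats
variable (n : ℕ) (F : Type*) [Field F]

/-- symmetric matrices, as an additive subgroup -/
def symAdd : AddSubgroup (Matrix (Fin n) (Fin n) F) where
  carrier := {S | Sᵀ = S}
  add_mem' := by
    intro a b ha hb
    show (a + b)ᵀ = a + b
    rw [Matrix.transpose_add, ha, hb]
  zero_mem' := Matrix.transpose_zero
  neg_mem' := by
    intro a ha
    show (-a)ᵀ = -a
    rw [Matrix.transpose_neg, ha]

/-- symmetric matrices with zero diagonal ("alternating" matrices), inside `symAdd` -/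
def altAdd : AddSubgroup ↥(symAdd n F) where
  carrier := {S | ∀ i, (S : Matrix (Fin n) (Fin n) F) i i = 0}
  add_mem' := by
    intro a b ha hb i
    show ((a : Matrix (Fin n) (Fin n) F) + b) i i = 0
    rw [Matrix.add_apply, ha i, hb i, add_zero]
  zero_mem' := fun _ => rfl
  neg_mem' := by
    intro a ha i
    show (-(a : Matrix (Fin n) (Fin n) F)) i i = 0
    rw [Matrix.neg_apply, ha i, neg_zero]

variable {n F}

theorem mem_symAdd (S : Matrix (Fin n) (Fin n) F) : S ∈ symAdd n F ↔ Sᵀ = S := Iff.rfl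

theorem symAdd_transpose (S : ↥(symAdd n F)) : (S : Matrix (Fin n) (Fin n) F)ᵀ = S := S.2

theorem mem_altAdd (S : ↥(symAdd n F)) :
    S ∈ altAdd n F ↔ ∀ i, (S : Matrix (Fin n) (Fin n) F) i i = 0 := Iff.rfl

/-- the Siegel unipotent element `[[1, S], [0, 1]]` -/
def uS (S : ↥(symAdd n F)) : Matrix.symplecticGroup (Fin n) F :=
  ⟨fromBlocks 1 (S : Matrix (Fin n) (Fin n) F) 0 1, by
    rw [SymplecticGroup.mem_iff, Matrix.J, fromBlocks_multiply, fromBlocks_transpose,
      fromBlocks_multiply]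
    simp [symAdd_transpose]⟩

@[simp] theorem uS_coe (S : ↥(symAdd n F)) :
    ((uS S : Matrix.symplecticGroup (Fin n) F) : Matrix (Fin n ⊕ Fin n) (Fin n ⊕ Fin n) F) =
      fromBlocks 1 (S : Matrix (Fin n) (Fin n) F) 0 1 := rfl

theorem uS_add (S T : ↥(symAdd n F)) : uS (S + T) = uS S * uS T := by
  apply Subtype.ext
  show fromBlocks 1 ((S + T : ↥(symAdd n F)) : Matrix (Fin n) (Fin n) F) 0 1 =
    fromBlocks 1 (S : Matrix (Fin n) (Fin n) F) 0 1 * fromBlocks 1 (T : Matrix (Fin n) (Fin n) F) 0 1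
  rw [fromBlocks_multiply]
  simp only [Matrix.mul_zero, Matrix.mul_one, Matrix.one_mul, Matrix.zero_mul, zero_add, add_zero,
    AddSubgroup.coe_add]
  rw [add_comm]

theorem uS_zero : uS (0 : ↥(symAdd n F)) = 1 := by
  apply Subtype.ext
  show fromBlocks 1 (0 : Matrix (Fin n) (Fin n) F) 0 1 = 1
  exact fromBlocks_one

/-- `S ↦ uS S` as a monoid homomorphism from the multiplicative version of `symAdd` -/
def uHom : Multiplicative ↥(symAdd n F) →* Matrix.symplecticGroup (Fin n) F where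
  toFun S := uS (Multiplicative.toAdd S)
  map_one' := uS_zero
  map_mul' S T := uS_add _ _

@[simp] theorem uHom_apply (S : ↥(symAdd n F)) : uHom (Multiplicative.ofAdd S) = uS S := rfl

/-- the opposite unipotent element `[[1, 0], [T, 1]]` -/
def lT (T : ↥(symAdd n F)) : Matrix.symplecticGroup (Fin n) F :=
  ⟨fromBlocks 1 0 (T : Matrix (Fin n) (Fin n) F) 1, by
    rw [SymplecticGroup.mem_iff, Matrix.J, fromBlocks_multiply, fromBlocks_transpose,
      fromBlocks_multiply]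
    simp [symAdd_transpose]⟩

@[simp] theorem lT_coe (T : ↥(symAdd n F)) :
    ((lT T : Matrix.symplecticGroup (Fin n) F) : Matrix (Fin n ⊕ Fin n) (Fin n ⊕ Fin n) F) =
      fromBlocks 1 0 (T : Matrix (Fin n) (Fin n) F) 1 := rfl

/-- the Levi element `[[A, 0], [0, A⁻ᵀ]]` -/
def dA (A : GL (Fin n) F) : Matrix.symplecticGroup (Fin n) F :=
  ⟨fromBlocks (A : Matrix (Fin n) (Fin n) F) 0 0 ((A⁻¹ : GL (Fin n) F) : Matrix (Fin n) (Fin n) F)ᵀ, by
    have h1 : (A : Matrix (Fin n) (Fin n) F) * ((A⁻¹ : GL (Fin n) F) : Matrix (Fin n) (Fin n) F) = 1 := by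
      rw [← Units.val_mul, mul_inv_cancel, Units.val_one]
    have h2 : ((A⁻¹ : GL (Fin n) F) : Matrix (Fin n) (Fin n) F)ᵀ * (A : Matrix (Fin n) (Fin n) F)ᵀ = 1 := by
      rw [← Matrix.transpose_mul, h1, Matrix.transpose_one]
    rw [SymplecticGroup.mem_iff, Matrix.J, fromBlocks_multiply, fromBlocks_transpose,
      fromBlocks_multiply]
    simp only [Matrix.mul_zero, Matrix.zero_mul, zero_add, add_zero, Matrix.transpose_zero,
      Matrix.transpose_transpose, Matrix.mul_neg, Matrix.mul_one, Matrix.neg_mul, neg_zero, h1, h2]⟩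

@[simp] theorem dA_coe (A : GL (Fin n) F) :
    ((dA A : Matrix.symplecticGroup (Fin n) F) : Matrix (Fin n ⊕ Fin n) (Fin n ⊕ Fin n) F) =
      fromBlocks (A : Matrix (Fin n) (Fin n) F) 0 0
        ((A⁻¹ : GL (Fin n) F) : Matrix (Fin n) (Fin n) F)ᵀ := rfl

/-- the congruence action `S ↦ A S Aᵀ` on symmetric matrices -/
def congrS (A : GL (Fin n) F) : ↥(symAdd n F) ≃+ ↥(symAdd n F) where
  toFun S := ⟨(A : Matrix (Fin n) (Fin n) F) * (S : Matrix (Fin n) (Fin n) F) *
      (A : Matrix (Fin n) (Fin n) F)ᵀ, by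
    rw [mem_symAdd, Matrix.transpose_mul, Matrix.transpose_mul, Matrix.transpose_transpose,
      symAdd_transpose, Matrix.mul_assoc]⟩
  invFun S := ⟨((A⁻¹ : GL (Fin n) F) : Matrix (Fin n) (Fin n) F) * (S : Matrix (Fin n) (Fin n) F) *
      ((A⁻¹ : GL (Fin n) F) : Matrix (Fin n) (Fin n) F)ᵀ, by
    rw [mem_symAdd, Matrix.transpose_mul, Matrix.transpose_mul, Matrix.transpose_transpose,
      symAdd_transpose, Matrix.mul_assoc]⟩
  left_inv S := by
    apply Subtype.ext
    have h1 : ((A⁻¹ : GL (Fin n) F) : Matrix (Fin n) (Fin n) F) * (A : Matrix (Fin n) (Fin n) F) = 1 := by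
      rw [← Units.val_mul, inv_mul_cancel, Units.val_one]
    have h2 : (A : Matrix (Fin n) (Fin n) F)ᵀ * ((A⁻¹ : GL (Fin n) F) : Matrix (Fin n) (Fin n) F)ᵀ = 1 := by
      rw [← Matrix.transpose_mul, h1, Matrix.transpose_one]
    show ((A⁻¹ : GL (Fin n) F) : Matrix (Fin n) (Fin n) F) *
        ((A : Matrix (Fin n) (Fin n) F) * (S : Matrix (Fin n) (Fin n) F) * (A : Matrix (Fin n) (Fin n) F)ᵀ) *
        ((A⁻¹ : GL (Fin n) F) : Matrix (Fin n) (Fin n) F)ᵀ = S
    calc _ = (((A⁻¹ : GL (Fin n) F) : Matrix (Fin n) (Fin n) F) * (A : Matrix (Fin n) (Fin n) F)) *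
          (S : Matrix (Fin n) (Fin n) F) * ((A : Matrix (Fin n) (Fin n) F)ᵀ *
          ((A⁻¹ : GL (Fin n) F) : Matrix (Fin n) (Fin n) F)ᵀ) := by simp only [Matrix.mul_assoc]
      _ = S := by rw [h1, h2, Matrix.one_mul, Matrix.mul_one]
  right_inv S := by
    apply Subtype.ext
    have h1 : (A : Matrix (Fin n) (Fin n) F) * ((A⁻¹ : GL (Fin n) F) : Matrix (Fin n) (Fin n) F) = 1 := by
      rw [← Units.val_mul, mul_inv_cancel, Units.val_one]
    have h2 : ((A⁻¹ : GL (Fin n) F) : Matrix (Fin n) (Fin n) F)ᵀ * (A : Matrix (Fin n) (Fin n) F)ᵀ = 1 := by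
      rw [← Matrix.transpose_mul, h1, Matrix.transpose_one]
    show (A : Matrix (Fin n) (Fin n) F) *
        (((A⁻¹ : GL (Fin n) F) : Matrix (Fin n) (Fin n) F) * (S : Matrix (Fin n) (Fin n) F) *
          ((A⁻¹ : GL (Fin n) F) : Matrix (Fin n) (Fin n) F)ᵀ) * (A : Matrix (Fin n) (Fin n) F)ᵀ = S
    calc _ = ((A : Matrix (Fin n) (Fin n) F) * ((A⁻¹ : GL (Fin n) F) : Matrix (Fin n) (Fin n) F)) *
          (S : Matrix (Fin n) (Fin n) F) * (((A⁻¹ : GL (Fin n) F) : Matrix (Fin n) (Fin n) F)ᵀ *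
          (A : Matrix (Fin n) (Fin n) F)ᵀ) := by simp only [Matrix.mul_assoc]
      _ = S := by rw [h1, h2, Matrix.one_mul, Matrix.mul_one]
  map_add' S T := by
    apply Subtype.ext
    show (A : Matrix (Fin n) (Fin n) F) * ((S + T : ↥(symAdd n F)) : Matrix (Fin n) (Fin n) F) *
        (A : Matrix (Fin n) (Fin n) F)ᵀ =
      (A : Matrix (Fin n) (Fin n) F) * (S : Matrix (Fin n) (Fin n) F) * (A : Matrix (Fin n) (Fin n) F)ᵀ +
        (A : Matrix (Fin n) (Fin n) F) * (T : Matrix (Fin n) (Fin n) F) * (A : Matrix (Fin n) (Fin n) F)ᵀ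
    rw [AddSubgroup.coe_add, Matrix.mul_add, Matrix.add_mul]

@[simp] theorem congrS_coe (A : GL (Fin n) F) (S : ↥(symAdd n F)) :
    ((congrS A S : ↥(symAdd n F)) : Matrix (Fin n) (Fin n) F) =
      (A : Matrix (Fin n) (Fin n) F) * (S : Matrix (Fin n) (Fin n) F) *
        (A : Matrix (Fin n) (Fin n) F)ᵀ := rfl

@[simp] theorem congrS_symm_coe (A : GL (Fin n) F) (S : ↥(symAdd n F)) :
    (((congrS A).symm S : ↥(symAdd n F)) : Matrix (Fin n) (Fin n) F) =
      ((A⁻¹ : GL (Fin n) F) : Matrix (Fin n) (Fin n) F) * (S : Matrix (Fin n) (Fin n) F) *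
        ((A⁻¹ : GL (Fin n) F) : Matrix (Fin n) (Fin n) F)ᵀ := rfl

/-- the Levi element conjugates `uS S` to `uS (A S Aᵀ)` -/
theorem dA_mul_uS (A : GL (Fin n) F) (S : ↥(symAdd n F)) : dA A * uS S = uS (congrS A S) * dA A := by
  apply Subtype.ext
  have h2 : (A : Matrix (Fin n) (Fin n) F)ᵀ * ((A⁻¹ : GL (Fin n) F) : Matrix (Fin n) (Fin n) F)ᵀ = 1 := by
    rw [← Matrix.transpose_mul, ← Units.val_mul, inv_mul_cancel, Units.val_one, Matrix.transpose_one]
  show fromBlocks (A : Matrix (Fin n) (Fin n) F) 0 0 ((A⁻¹ : GL (Fin n) F) : Matrix (Fin n) (Fin n) F)ᵀ *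
      fromBlocks 1 (S : Matrix (Fin n) (Fin n) F) 0 1 =
    fromBlocks 1 ((A : Matrix (Fin n) (Fin n) F) * (S : Matrix (Fin n) (Fin n) F) *
        (A : Matrix (Fin n) (Fin n) F)ᵀ) 0 1 *
      fromBlocks (A : Matrix (Fin n) (Fin n) F) 0 0 ((A⁻¹ : GL (Fin n) F) : Matrix (Fin n) (Fin n) F)ᵀ
  rw [fromBlocks_multiply, fromBlocks_multiply]
  simp only [Matrix.mul_zero, Matrix.mul_one, Matrix.one_mul, Matrix.zero_mul, zero_add, add_zero]
  rw [Matrix.mul_assoc, h2, Matrix.mul_one]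

theorem dA_conj_uS (A : GL (Fin n) F) (S : ↥(symAdd n F)) :
    dA A * uS S * (dA A)⁻¹ = uS (congrS A S) := by
  rw [dA_mul_uS, mul_inv_cancel_right]

/-- `c • x xᵀ` -/
def rk1 (c : F) (x : Fin n → F) : ↥(symAdd n F) :=
  ⟨c • vecMulVec x x, by
    rw [mem_symAdd, Matrix.transpose_smul, Matrix.transpose_vecMulVec]⟩

/-- `c • (x yᵀ + y xᵀ)` -/
def rk2 (c : F) (x y : Fin n → F) : ↥(symAdd n F) :=
  ⟨c • (vecMulVec x y + vecMulVec y x), by
    rw [mem_symAdd, Matrix.transpose_smul, Matrix.transpose_add, Matrix.transpose_vecMulVec,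
      Matrix.transpose_vecMulVec, add_comm]⟩

@[simp] theorem rk1_coe (c : F) (x : Fin n → F) :
    ((rk1 c x : ↥(symAdd n F)) : Matrix (Fin n) (Fin n) F) = c • vecMulVec x x := rfl

@[simp] theorem rk2_coe (c : F) (x y : Fin n → F) :
    ((rk2 c x y : ↥(symAdd n F)) : Matrix (Fin n) (Fin n) F) =
      c • (vecMulVec x y + vecMulVec y x) := rfl

theorem congrS_rk1 (A : GL (Fin n) F) (c : F) (x : Fin n → F) :
    congrS A (rk1 c x) = rk1 c ((A : Matrix (Fin n) (Fin n) F) *ᵥ x) := by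
  apply Subtype.ext
  rw [congrS_coe, rk1_coe, rk1_coe, Matrix.mul_smul, Matrix.smul_mul, Matrix.mul_vecMulVec,
    Matrix.vecMulVec_mul, Matrix.vecMul_transpose]

theorem congrS_rk2 (A : GL (Fin n) F) (c : F) (x y : Fin n → F) :
    congrS A (rk2 c x y) =
      rk2 c ((A : Matrix (Fin n) (Fin n) F) *ᵥ x) ((A : Matrix (Fin n) (Fin n) F) *ᵥ y) := by
  apply Subtype.ext
  rw [congrS_coe, rk2_coe, rk2_coe, Matrix.mul_smul, Matrix.smul_mul, Matrix.mul_add,
    Matrix.add_mul, Matrix.mul_vecMulVec, Matrix.mul_vecMulVec, Matrix.vecMulVec_mul,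
    Matrix.vecMulVec_mul, Matrix.vecMul_transpose, Matrix.vecMul_transpose]

end mats

section rep
variable {G : Type*} [Group G] {V : Type*} [AddCommGroup V] [Module ℂ V]
variable {A : Type*} [AddCommGroup A]

/-- the weight space of the additive character `θ` of `A`, for `A` acting on `V` through `u : A → G` -/
def wt (ρ : Representation ℂ G V) (u : Multiplicative A →* G) (θ : AddChar A ℂ) : Submodule ℂ V where
  carrier := {x | ∀ a : A, ρ (u (Multiplicative.ofAdd a)) x = θ a • x}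
  add_mem' := by
    intro x y hx hy a
    rw [map_add, hx a, hy a, smul_add]
  zero_mem' := by
    intro a
    rw [map_zero, smul_zero]
  smul_mem' := by
    intro c x hx a
    rw [map_smul, hx a, smul_comm]

theorem mem_wt (ρ : Representation ℂ G V) (u : Multiplicative A →* G) (θ : AddChar A ℂ) (x : V) :
    x ∈ wt ρ u θ ↔ ∀ a : A, ρ (u (Multiplicative.ofAdd a)) x = θ a • x := Iff.rfl

end rep

section quad
variable {n : ℕ} {F : Type*} [Field F]

/-- the quadratic form `x ↦ Q (A⁻¹ x)` -/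
noncomputable def actQ (A : GL (Fin n) F) (Q : QuadraticForm F (Fin n → F)) :
    QuadraticForm F (Fin n → F) :=
  Q.comp (Matrix.toLin' ((A⁻¹ : GL (Fin n) F) : Matrix (Fin n) (Fin n) F))

@[simp] theorem actQ_apply (A : GL (Fin n) F) (Q : QuadraticForm F (Fin n → F)) (x : Fin n → F) :
    actQ A Q x = Q (((A⁻¹ : GL (Fin n) F) : Matrix (Fin n) (Fin n) F) *ᵥ x) := by
  unfold actQ
  rw [QuadraticMap.comp_apply, Matrix.toLin'_apply]

/-- the `GL_n`-orbit of the quadratic form `Q` -/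
def orbQ (Q : QuadraticForm F (Fin n → F)) : Set (QuadraticForm F (Fin n → F)) :=
  {Q' | ∃ A : GL (Fin n) F, Q' = actQ A Q}

/-- the standard pairs of `Q` with values `a, b`: `B(x,y) = 1`, `Q x = a`, `Q y = b` -/
def stdPairs (Q : QuadraticForm F (Fin n → F)) (a b : F) : Set ((Fin n → F) × (Fin n → F)) :=
  {p | QuadraticMap.polar Q p.1 p.2 = 1 ∧ Q p.1 = a ∧ Q p.2 = b}

theorem mem_stdPairs (Q : QuadraticForm F (Fin n → F)) (a b : F) (p : (Fin n → F) × (Fin n → F)) :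
    p ∈ stdPairs Q a b ↔ QuadraticMap.polar Q p.1 p.2 = 1 ∧ Q p.1 = a ∧ Q p.2 = b := Iff.rfl

/-- the action of `GL_n` on the additive characters of the symmetric matrices: `(A·θ)(S) = θ(A⁻¹ S A⁻ᵀ)` -/
def actT (A : GL (Fin n) F) (θ : AddChar ↥(symAdd n F) ℂ) : AddChar ↥(symAdd n F) ℂ :=
  θ.compAddMonoidHom (((congrS A).symm : ↥(symAdd n F) ≃+ ↥(symAdd n F)) : ↥(symAdd n F) →+ ↥(symAdd n F))

@[simp] theorem actT_apply (A : GL (Fin n) F) (θ : AddChar ↥(symAdd n F) ℂ) (S : ↥(symAdd n F)) :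
    actT A θ S = θ ((congrS A).symm S) := rfl

end quad

end Cfsg.Agent.Lib.Helper94.SPMD
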