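import Mathlib
import Cfsg.Agent.Lib.Helper94.SPMD.Defs
import Cfsg.Agent.Lib.Helper11.SpmdCaseA
import Cfsg.Agent.Lib.Helper36.SpmdCCaseB

/-!
# Project SPMD (helper94), modules [C-PAIR] and [C-MAIN] (the latter in `_of` form: [C-COUNT] enters as a hypothesis)
-/

set_option autoImplicit false

namespace Cfsg.Agent.Lib.Helper94.SPMD

open Matrix Module

section C
variable {F : Type*} [Field F] [Fintype F] {n : ℕ}

namespace CMain

/-- **[C-CHAR2]** (own copy, fresh name) -/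
theorem two_eq_zero_of_even_card (heven : Even (Fintype.card F)) : (2 : F) = 0 := by
  classical
  obtain ⟨p, hp⟩ := CharP.exists F
  haveI := hp
  haveI hpr : Fact p.Prime := ⟨CharP.char_is_prime F p⟩
  obtain ⟨k, hpk, hk⟩ := FiniteField.card F p
  have h2 : p = 2 := by
    rw [hk] at heven
    have hev : Even p := by
      rcases Nat.even_pow.mp heven with ⟨h, _⟩
      exact h
    exact (Nat.Prime.even_iff hpk).mp hev
  subst h2
  exact CharTwo.two_eq_zero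

end CMain

/-- **[C-PAIR]** -/
theorem exists_stdPairs_le {q : ℕ} (hq : Fintype.card F = q) (h2 : (2 : F) = 0) (hn : 2 ≤ n)
    (Q : QuadraticForm F (Fin n → F)) (hB : ∃ x y, QuadraticMap.polar Q x y ≠ 0) :
    ∃ x₀ y₀, QuadraticMap.polar Q x₀ y₀ = 1 ∧
      Nat.card (stdPairs Q (Q x₀) (Q y₀)) ≤ 2 * (q + 1) * q ^ (2 * (n - 2)) := by
  by_cases hs : ∃ x₁, Q x₁ = 0 ∧ ∃ y, QuadraticMap.polar Q x₁ y ≠ 0
  · obtain ⟨x₁, hx₁, y, hy⟩ := hs
    have h1 : QuadraticMap.polar Q x₁ ((QuadraticMap.polar Q x₁ y)⁻¹ • y) = 1 := by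
      rw [QuadraticMap.polar_smul_right, smul_eq_mul, inv_mul_cancel₀ hy]
    refine ⟨x₁, (QuadraticMap.polar Q x₁ y)⁻¹ • y, h1, ?_⟩
    have := card_stdPairs_le_of_singular hq h2 hn Q x₁ ((QuadraticMap.polar Q x₁ y)⁻¹ • y) hx₁ h1
    rwa [hx₁]
  · have hs' : ∀ x, Q x = 0 → ∀ y, QuadraticMap.polar Q x y = 0 := by
      intro x hx y
      by_contra hne
      exact hs ⟨x, hx, y, hne⟩
    obtain ⟨x, y, hxy⟩ := hB
    have h1 : QuadraticMap.polar Q x ((QuadraticMap.polar Q x y)⁻¹ • y) = 1 := by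
      rw [QuadraticMap.polar_smul_right, smul_eq_mul, inv_mul_cancel₀ hxy]
    exact ⟨x, (QuadraticMap.polar Q x y)⁻¹ • y, h1,
      card_stdPairs_le_of_aniso hq h2 hn Q hs' x _ h1⟩

/-- **[C-MAIN]** (`_of` form: the double count [C-COUNT] is a hypothesis) -/
theorem orbit_bound_of {q : ℕ} (hq : Fintype.card F = q) (heven : Even q) (hn : 2 ≤ n)
    (Q : QuadraticForm F (Fin n → F)) (hB : ∃ x y, QuadraticMap.polar Q x y ≠ 0)
    (hcount : ∀ x₀ y₀ : Fin n → F, QuadraticMap.polar Q x₀ y₀ = 1 →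
      (q ^ n - 1) * (q ^ n - q) * q ^ (2 * (n - 2)) ≤
        Nat.card (orbQ Q) * Nat.card (stdPairs Q (Q x₀) (Q y₀))) :
    (q ^ n - 1) * (q ^ n - q) ≤ 2 * (q + 1) * Nat.card (orbQ Q) := by
  have h2 : (2 : F) = 0 := CMain.two_eq_zero_of_even_card (by rw [hq]; exact heven)
  obtain ⟨x₀, y₀, h1, hle⟩ := exists_stdPairs_le hq h2 hn Q hB
  have hc := hcount x₀ y₀ h1
  have hq2 : 2 ≤ q := by rw [← hq]; exact Fintype.one_lt_card
  have hpos : 0 < q ^ (2 * (n - 2)) := Nat.pow_pos (by omega)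
  apply Nat.le_of_mul_le_mul_right _ hpos
  calc (q ^ n - 1) * (q ^ n - q) * q ^ (2 * (n - 2))
      ≤ Nat.card (orbQ Q) * Nat.card (stdPairs Q (Q x₀) (Q y₀)) := hc
    _ ≤ Nat.card (orbQ Q) * (2 * (q + 1) * q ^ (2 * (n - 2))) := Nat.mul_le_mul_left _ hle
    _ = 2 * (q + 1) * Nat.card (orbQ Q) * q ^ (2 * (n - 2)) := by ring

end C

end Cfsg.Agent.Lib.Helper94.SPMD
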