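import Mathlib
import Cfsg.Agent.Lib.Helper94.SPMD.Defs
import Cfsg.Agent.Lib.Helper94.SPMD.CMain
import Cfsg.Agent.Lib.Helper62.SpmdRConj
import Cfsg.Agent.Lib.Helper62.SpmdTTriv
import Cfsg.Agent.Lib.Helper76.SpmdSNT
import Cfsg.Agent.Lib.Helper1.SpmdREx
import Cfsg.Agent.Lib.Helper44.SpmdQForm
import Cfsg.Agent.Lib.Helper44.SpmdQEqv
import Cfsg.Agent.Lib.Helper77.SpmdRDec
import Cfsg.Agent.Lib.Helper14.SpmdCCount

/-!
# Project SPMD (helper94): [C-MAIN] and the final assembly [T-MAIN]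
-/

set_option autoImplicit false

namespace Cfsg.Agent.Lib.Helper94.SPMD

open Matrix Module

/-- **[C-MAIN]** the orbit of a quadratic form with non-zero polar form -/
theorem orbit_bound {F : Type*} [Field F] [Fintype F] {n : ℕ} {q : ℕ} (hq : Fintype.card F = q)
    (heven : Even q) (hn : 2 ≤ n)
    (Q : QuadraticForm F (Fin n → F)) (hB : ∃ x y, QuadraticMap.polar Q x y ≠ 0) :
    (q ^ n - 1) * (q ^ n - q) ≤ 2 * (q + 1) * Nat.card (orbQ Q) := by
  have h2 : (2 : F) = 0 := CMain.two_eq_zero_of_even_card (by rw [hq]; exact heven)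
  exact orbit_bound_of hq heven hn Q hB (fun x₀ y₀ h1 => orbit_double_count hq h2 hn Q x₀ y₀ h1)

/-- **[T-MAIN]** -/
theorem main_bound {F : Type*} [Field F] [Fintype F] (n : ℕ) (hn : 2 ≤ n)
    (heven : Even (Fintype.card F)) (hex : (n, Fintype.card F) ≠ (2, 2)) :
    (∀ (k : ℕ) (ρ : Representation ℂ (Matrix.symplecticGroup (Fin n) F) (Fin k → ℂ)),
      ρ.IsIrreducible → 2 ≤ k →
      (Fintype.card F ^ n - 1) * (Fintype.card F ^ n - Fintype.card F) / (2 * (Fintype.card F + 1)) ≤ k) := by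
  classical
  intro k ρ hirr hk
  have hq2 : 2 ≤ Fintype.card F := Fintype.one_lt_card
  have hex' : n = 2 → 3 ≤ Fintype.card F := by
    intro h2
    have hne : Fintype.card F ≠ 2 := fun h => hex (by rw [h2, h])
    obtain ⟨r, hr⟩ := heven
    omega
  obtain ⟨g, hg⟩ := exists_ne_one_of_irreducible ρ hirr hk
  obtain ⟨S₀, hS₀alt, hS₀⟩ := exists_alt_ne_one hn hex' ρ ⟨g, hg⟩
  obtain ⟨θ, hθ, a, ha, hθa⟩ := exists_wt_ne_bot ρ (uHom (n := n) (F := F)) (altAdd n F)
    ⟨S₀, hS₀alt, by rw [uHom_apply]; exact hS₀⟩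
  -- a primitive additive character
  obtain ⟨ψ, hψ1⟩ : ∃ ψ : AddChar F ℂ, ψ ≠ 1 := by
    by_contra hcon
    push Not at hcon
    have hsub : Subsingleton (AddChar F ℂ) := ⟨fun a b => by rw [hcon a, hcon b]⟩
    have hcard : Fintype.card (AddChar F ℂ) = Fintype.card F := AddChar.card_eq
    have : Fintype.card (AddChar F ℂ) ≤ 1 := Fintype.card_le_one_iff_subsingleton.mpr hsub
    omega
  have hψ : ψ.IsPrimitive := AddChar.IsPrimitive.of_ne_one hψ1
  obtain ⟨Q, hQ1, hQ2⟩ := exists_quadForm ψ hψ θ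
  have hpol := polar_ne_zero ψ θ Q hQ2 ⟨a, ha, hθa⟩
  have hbound := orbit_bound (F := F) (n := n) rfl heven hn Q hpol
  -- the orbit of θ
  let ι := {θ' : AddChar ↥(symAdd n F) ℂ // ∃ A : GL (Fin n) F, θ' = actT A θ}
  have hfinι : Finite ι := inferInstance
  have h1 : Nat.card ι ≤ finrank ℂ (Fin k → ℂ) :=
    card_le_finrank_of_wt_ne_bot ρ (uHom (n := n) (F := F)) (fun i : ι => i.1)
      Subtype.val_injective (by
        rintro ⟨θ', A, rfl⟩
        exact wt_ne_bot_of_conj ρ uHom θ (dA A) (congrS A) (fun S => by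
          rw [uHom_apply, uHom_apply]; exact dA_mul_uS A S) hθ)
  rw [Module.finrank_fintype_fun_eq_card, Fintype.card_fin] at h1
  -- the orbit of Q is an image of the orbit of θ
  have hfinQ : Finite (orbQ Q) := by
    have : Finite (QuadraticForm F (Fin n → F)) :=
      Finite.of_injective (fun Q : QuadraticForm F (Fin n → F) => (Q : (Fin n → F) → F))
        DFunLike.coe_injective
    exact Finite.of_injective (fun x : orbQ Q => x.1) Subtype.val_injective
  let f : ι → orbQ Q := fun i =>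
    ⟨Classical.choose (exists_quadForm ψ hψ i.1), by
      obtain ⟨θ', A, rfl⟩ := i
      exact ⟨A, quadForm_equivariant ψ hψ θ A Q _ hQ1
        (Classical.choose_spec (exists_quadForm ψ hψ (actT A θ))).1⟩⟩
  have hfsurj : Function.Surjective f := by
    rintro ⟨Q', A, rfl⟩
    refine ⟨⟨actT A θ, A, rfl⟩, ?_⟩
    apply Subtype.ext
    exact quadForm_equivariant ψ hψ θ A Q _ hQ1
      (Classical.choose_spec (exists_quadForm ψ hψ (actT A θ))).1
  have h2 : Nat.card (orbQ Q) ≤ Nat.card ι := Nat.card_le_card_of_surjective f hfsurj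
  have h3 : (Fintype.card F ^ n - 1) * (Fintype.card F ^ n - Fintype.card F) ≤
      2 * (Fintype.card F + 1) * k :=
    hbound.trans (Nat.mul_le_mul_left _ (h2.trans h1))
  apply Nat.div_le_of_le_mul
  exact h3

end Cfsg.Agent.Lib.Helper94.SPMD
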